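import Groth.Agent.CSA8.Split
import Groth.Agent.CSA.MatrixUnique
import Mathlib.LinearAlgebra.Matrix.Basis
import Mathlib.Algebra.BrauerGroup.Defs

/-! Splitting and similarity. -/

set_option autoImplicit false

open scoped TensorProduct

universe u v w

namespace Groth.Agent.CSA8

variable {k : Type u} [Field k]

theorem splits_of_matrix (k' : Type v) [Field k'] [Algebra k k'] (A : Type w) [Ring A] [Algebra k A]
    [Algebra.IsCentral k A] [IsSimpleRing A] [FiniteDimensional k A] {p : ℕ} (hp : p ≠ 0)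
    (h : Curves.Splits k (Matrix (Fin p) (Fin p) A) k') : Curves.Splits k A k' := by
  obtain ⟨N, hN, ⟨e⟩⟩ := h
  have := tensor_simple k k' A
  have : IsArtinianRing (k' ⊗[k] A) := .of_finite k' _
  obtain ⟨r, hr, E, _, _, _, ⟨f⟩⟩ := IsSimpleRing.exists_algEquiv_matrix_divisionRing_finite k' (k' ⊗[k] A)
  have : Nonempty (Fin p × Fin r) := ⟨⟨⟨0, Nat.pos_of_ne_zero hp⟩, ⟨0, Nat.pos_of_ne_zero hr.out⟩⟩⟩
  have : Nonempty (Fin N) := ⟨⟨0, Nat.pos_of_ne_zero hN⟩⟩
  let g : Matrix (Fin p × Fin r) (Fin p × Fin r) E ≃ₐ[k'] Matrix (Fin N) (Fin N) k' :=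
    ((Matrix.compAlgEquiv (Fin p) (Fin r) E k').symm.trans (f.symm.mapMatrix)).trans
      ((baseMatrix k' A (Fin p)).symm.trans e)
  obtain ⟨⟨η⟩, -⟩ := Groth.Agent.CSA.MatrixUnique.unique g
  exact ⟨r, hr.out, ⟨f.trans η.mapMatrix⟩⟩

theorem exists_embedding (k' : Type u) [Field k'] [Algebra k k'] [FiniteDimensional k k'] (D : Type u)
    [DivisionRing D] [Algebra k D] [FiniteDimensional k D] (h : Curves.Splits k D k') :
    ∃ m : ℕ, m ≠ 0 ∧ Nonempty (k' →ₐ[k] Matrix (Fin m) (Fin m) D) ∧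
      m * m * Module.finrank k D = Module.finrank k k' ^ 2 := by
  obtain ⟨d, hd, ⟨e⟩⟩ := h
  let φ : D →ₐ[k] Matrix (Fin d) (Fin d) k' := (e.toAlgHom.restrictScalars k).comp Algebra.TensorProduct.includeRight
  let ρ : Dᵐᵒᵖ →ₐ[k] Module.End k' (Fin d → k') :=
    ((Matrix.toLinAlgEquiv' : Matrix (Fin d) (Fin d) k' ≃ₐ[k'] _).toAlgHom.restrictScalars k).comp
      ((Matrix.transposeAlgEquiv (Fin d) k k').symm.toAlgHom.comp (AlgHom.op φ))
  let _ : Module Dᵐᵒᵖ (Fin d → k') := Module.compHom _ ρ.toRingHom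
  have hsm : ∀ (x : Dᵐᵒᵖ) (v : Fin d → k'), x • v = ρ x v := fun _ _ => rfl
  have : IsScalarTower k Dᵐᵒᵖ (Fin d → k') := ⟨fun c x v => by rw [hsm, hsm, map_smul]; rfl⟩
  have : FiniteDimensional k (Fin d → k') := inferInstance
  have : Module.Finite Dᵐᵒᵖ (Fin d → k') := Module.Finite.of_restrictScalars_finite k Dᵐᵒᵖ _
  have : SMulCommClass k' Dᵐᵒᵖ (Fin d → k') := ⟨fun c x v => by rw [hsm, hsm, map_smul]⟩
  let b := Module.finBasis Dᵐᵒᵖ (Fin d → k')
  set m := Module.finrank Dᵐᵒᵖ (Fin d → k')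
  have : Nonempty (Fin d) := ⟨⟨0, Nat.pos_of_ne_zero hd⟩⟩
  have hm : m ≠ 0 := (Module.finrank_pos (R := Dᵐᵒᵖ) (M := Fin d → k')).ne'
  let E : Module.End Dᵐᵒᵖ (Fin d → k') ≃ₐ[k] Matrix (Fin m) (Fin m) D :=
    ((b.equivFun.conjAlgEquiv k).trans (endVecAlgEquivMatrixEnd ..)).trans
      ((AlgEquiv.moduleEndSelf k (A := Dᵐᵒᵖ)).symm.trans (AlgEquiv.opOp k D).symm).mapMatrix
  let χ : k' →ₐ[k] Module.End Dᵐᵒᵖ (Fin d → k') := AlgHom.ofLinearMap
    { toFun := fun c =>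
        { toFun := fun v => c • v
          map_add' := smul_add c
          map_smul' := fun x v => smul_comm c x v }
      map_add' := fun a b => LinearMap.ext fun v => add_smul a b v
      map_smul' := fun t a => LinearMap.ext fun v => smul_assoc t a v }
    (LinearMap.ext fun v => one_smul k' v) (fun a b => LinearMap.ext fun v => mul_smul a b v)
  refine ⟨m, hm, ⟨E.toAlgHom.comp χ⟩, ?_⟩
  have h1 := Module.finrank_mul_finrank k Dᵐᵒᵖ (Fin d → k')
  rw [← (MulOpposite.opLinearEquiv k : D ≃ₗ[k] Dᵐᵒᵖ).finrank_eq, Module.finrank_pi_fintype, Finset.sum_const,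
    smul_eq_mul, Finset.card_univ, Fintype.card_fin] at h1
  have h2 := e.toLinearEquiv.finrank_eq
  rw [Module.finrank_baseChange, Module.finrank_matrix, Fintype.card_fin, Module.finrank_self, mul_one] at h2
  rw [h2] at h1 ⊢
  have h3 : d * m = Module.finrank k k' := Nat.eq_of_mul_eq_mul_left (Nat.pos_of_ne_zero hd) (by rw [← mul_assoc, h1])
  rw [← h3]; ring

end Groth.Agent.CSA8
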