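import Groth.Agent.CSA8.Simple
import Groth.Prelude.Def_Curves
import Mathlib.RingTheory.MatrixAlgebra
import Mathlib.Data.Matrix.Composition
import Mathlib.LinearAlgebra.Matrix.ToLin
import Mathlib.RingTheory.TensorProduct.Maps
import Mathlib.RingTheory.SimpleRing.Field
import Mathlib.RingTheory.Artinian.Module
import Mathlib.FieldTheory.JacobsonNoether
import Mathlib.RingTheory.AdjoinRoot
import Mathlib.FieldTheory.SeparableDegree
import Mathlib.FieldTheory.PrimitiveElement
import Mathlib.FieldTheory.IntermediateField.Adjoin.Basic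
import Mathlib.LinearAlgebra.FiniteDimensional.Basic

/-! Splitting fields of central simple algebras. -/

set_option autoImplicit false

open scoped TensorProduct

universe u v w

namespace Groth.Agent.CSA8

variable {k : Type u} [Field k]

/-- base change of matrices -/
noncomputable def baseMatrix (k' : Type v) [Field k'] [Algebra k k'] (A : Type w) [Ring A] [Algebra k A]
    (n : Type) [Fintype n] [DecidableEq n] :
    k' ⊗[k] Matrix n n A ≃ₐ[k'] Matrix n n (k' ⊗[k] A) :=
  let e1 : k' ⊗[k] Matrix n n A ≃ₐ[k] Matrix n n (k' ⊗[k] A) :=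
    ((Algebra.TensorProduct.congr AlgEquiv.refl (matrixEquivTensor n k A)).trans
      (Algebra.TensorProduct.assoc k k k k' A (Matrix n n k)).symm).trans (matrixEquivTensor n k (k' ⊗[k] A)).symm
  AlgEquiv.ofRingEquiv (f := e1.toRingEquiv) fun c => by
    show e1 (c ⊗ₜ[k] (1 : Matrix n n A)) = _
    simp only [e1, AlgEquiv.trans_apply, Algebra.TensorProduct.congr_apply, Algebra.TensorProduct.map_tmul,
      AlgEquiv.coe_toAlgHom, map_one, Algebra.TensorProduct.one_def,
      Algebra.TensorProduct.assoc_symm_tmul, matrixEquivTensor_apply_symm]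
    rw [Matrix.map_one _ (map_zero _) (map_one _)]
    show (c ⊗ₜ[k] (1 : A)) • (1 : Matrix n n (k' ⊗[k] A)) = _
    ext i j
    by_cases h : i = j <;> simp [h, Matrix.algebraMap_matrix_apply, Algebra.TensorProduct.algebraMap_apply]

theorem splits_matrix (k' : Type v) [Field k'] [Algebra k k'] (A : Type w) [Ring A] [Algebra k A] {n : ℕ} (hn : n ≠ 0)
    (h : Curves.Splits k A k') : Curves.Splits k (Matrix (Fin n) (Fin n) A) k' := by
  obtain ⟨m, hm, ⟨e⟩⟩ := h
  refine ⟨n * m, Nat.mul_ne_zero hn hm, ⟨?_⟩⟩
  exact (baseMatrix k' A (Fin n)).trans ((e.mapMatrix).trans ((Matrix.compAlgEquiv (Fin n) (Fin m) k' k').trans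
    (Matrix.reindexAlgEquiv k' k' finProdFinEquiv)))

theorem splits_congr (k' : Type v) [Field k'] [Algebra k k'] {A : Type w} [Ring A] [Algebra k A] {B : Type*} [Ring B]
    [Algebra k B] (e : A ≃ₐ[k] B) (h : Curves.Splits k B k') : Curves.Splits k A k' := by
  obtain ⟨m, hm, ⟨f⟩⟩ := h
  exact ⟨m, hm, ⟨(Algebra.TensorProduct.congr (AlgEquiv.refl (R := k') (A₁ := k')) e).trans f⟩⟩

theorem splits_mono {k' : Type v} [Field k'] [Algebra k k'] {A : Type w} [Ring A] [Algebra k A]
    (k'' : Type*) [Field k''] [Algebra k k''] (f : k' →ₐ[k] k'') (h : Curves.Splits k A k') :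
    Curves.Splits k A k'' := by
  obtain ⟨m, hm, ⟨e⟩⟩ := h
  let _ : Algebra k' k'' := f.toRingHom.toAlgebra
  have : IsScalarTower k k' k'' := IsScalarTower.of_algebraMap_eq fun c => (f.commutes c).symm
  let e2 : Matrix (Fin m) (Fin m) k'' ≃ₐ[k''] k'' ⊗[k'] Matrix (Fin m) (Fin m) k' :=
    AlgEquiv.ofRingEquiv (f := (matrixEquivTensor (Fin m) k' k'').toRingEquiv) fun c => by
      show matrixEquivTensor (Fin m) k' k'' _ = _
      refine (matrixEquivTensor (Fin m) k' k'').symm.injective ?_
      rw [AlgEquiv.symm_apply_apply, Algebra.TensorProduct.algebraMap_apply, matrixEquivTensor_apply_symm,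
        Matrix.map_one _ (map_zero _) (map_one _), ← Algebra.algebraMap_eq_smul_one]
      rfl
  refine ⟨m, hm, ⟨?_⟩⟩
  exact ((Algebra.TensorProduct.congr (Algebra.TensorProduct.rid k' k'' k'') (AlgEquiv.refl (R := k) (A₁ := A))).symm.trans
    (Algebra.TensorProduct.assoc k k' k'' k'' k' A)).trans
    ((Algebra.TensorProduct.congr (AlgEquiv.refl (R := k'') (A₁ := k'')) e).trans e2.symm)

theorem splits_of_embedding {k' : Type v} [Field k'] [Algebra k k'] [FiniteDimensional k k'] {A : Type w} [Ring A] [Algebra k A]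
    [Algebra.IsCentral k A] [IsSimpleRing A] [FiniteDimensional k A] (f : k' →ₐ[k] A)
    (hdim : Module.finrank k A = Module.finrank k k' ^ 2) : Curves.Splits k A k' := by
  have hop : ∀ (a b : k') (x : A), x * f (a * b) = x * f b * f a := fun a b x => by
    rw [mul_comm a b, map_mul, mul_assoc]
  let mA : Module k' A :=
    { smul := fun c x => x * f c
      one_smul := fun x => show x * f 1 = x by rw [map_one, mul_one]
      mul_smul := hop
      smul_zero := fun c => zero_mul _
      smul_add := fun c x y => add_mul _ _ _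
      add_smul := fun c d x => show x * f (c + d) = x * f c + x * f d by rw [map_add, mul_add]
      zero_smul := fun x => show x * f 0 = 0 by rw [map_zero, mul_zero] }
  have : IsScalarTower k k' A := ⟨fun c d x => show x * f (c • d) = c • (x * f d) by rw [map_smul, mul_smul_comm]⟩
  have : SMulCommClass k' k A := ⟨fun c t x => show (t • x) * f c = t • (x * f c) from smul_mul_assoc _ _ _⟩
  have : FiniteDimensional k' A := Module.Finite.of_restrictScalars_finite k k' A
  let L : A →ₐ[k] Module.End k' A := AlgHom.ofLinearMap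
    { toFun := fun a =>
        { toFun := fun x => a * x
          map_add' := mul_add a
          map_smul' := fun c x => (mul_assoc a x (f c)).symm }
      map_add' := fun a b => LinearMap.ext fun x => add_mul a b x
      map_smul' := fun t a => LinearMap.ext fun x => smul_mul_assoc t a x }
    (LinearMap.ext one_mul) (fun a b => LinearMap.ext fun x => mul_assoc a b x)
  let Φ : k' ⊗[k] A →ₐ[k'] Module.End k' A :=
    Algebra.TensorProduct.lift (Algebra.ofId k' _) L (fun c a => Algebra.commutes c (L a))
  have := tensor_simple k k' A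
  have hinj : Function.Injective Φ := RingHom.injective Φ.toRingHom
  have hr := Module.finrank_mul_finrank k k' A
  have hpos : 0 < Module.finrank k k' := Module.finrank_pos
  have hA : Module.finrank k' A = Module.finrank k k' :=
    Nat.eq_of_mul_eq_mul_left hpos (by rw [hr, hdim, pow_two])
  have hsurj : Function.Surjective Φ := (LinearMap.injective_iff_surjective_of_finrank_eq_finrank (f := Φ.toLinearMap)
    (by rw [Module.finrank_baseChange, Module.finrank_linearMap, hA, hdim, pow_two])).1 hinj
  exact ⟨_, hA ▸ hpos.ne', ⟨(AlgEquiv.ofBijective Φ ⟨hinj, hsurj⟩).trans (algEquivMatrix (Module.finBasisOfFinrankEq k' A hA))⟩⟩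

theorem exists_separable_max (D : Type v) [DivisionRing D] [Algebra k D] [Algebra.IsCentral k D] [FiniteDimensional k D] :
    ∃ L : Subalgebra k D, (∀ x ∈ L, ∀ y ∈ L, x * y = y * x) ∧ Algebra.IsSeparable k L ∧
      Subalgebra.centralizer k (L : Set D) = L := by
  classical
  let P : ℕ → Prop := fun n => ∃ L : Subalgebra k D, (∀ x ∈ L, ∀ y ∈ L, x * y = y * x) ∧ Algebra.IsSeparable k L ∧
    Module.finrank k L = n
  have hbot : ∀ x ∈ (⊥ : Subalgebra k D), ∀ y ∈ (⊥ : Subalgebra k D), x * y = y * x := fun x hx y _ => by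
    obtain ⟨c, rfl⟩ := Algebra.mem_bot.1 hx
    exact Algebra.commutes c y
  have hP : P 1 := ⟨⊥, hbot, AlgEquiv.Algebra.isSeparable (Algebra.botEquiv k D).symm, by rw [Subalgebra.finrank_bot]⟩
  have hle : ∀ n, P n → n ≤ Module.finrank k D := fun n ⟨L, _, _, h⟩ => h ▸ L.toSubmodule.finrank_le
  obtain ⟨L, hcomm, hsep, hn⟩ := Nat.findGreatest_spec (P := P) (hle 1 hP) hP
  refine ⟨L, hcomm, hsep, ?_⟩
  let _ : CommRing L := { (inferInstance : Ring L) with mul_comm := fun x y => Subtype.ext (hcomm x x.2 y y.2) }
  have : IsArtinianRing L := .of_finite k L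
  let _ : Field L := (IsArtinianRing.isField_of_isDomain L).toField
  set C := Subalgebra.centralizer k (L : Set D) with hCdef
  have hLC : L ≤ C := fun x hx => (Subalgebra.mem_centralizer_iff k).2 fun y hy => hcomm y hy x hx
  have : IsSimpleRing L := (isSimpleRing_iff_isField L).2 (Field.toIsField L)
  have hCC : Subalgebra.centralizer k (C : Set D) = L := double_centralizer L
  let _ : DivisionRing C := divisionRingOfFiniteDimensional k C
  let ι : L →ₐ[k] C := Subalgebra.inclusion hLC
  let _ : Algebra L C := RingHom.toAlgebra' ι.toRingHom fun c x =>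
    Subtype.ext ((Subalgebra.mem_centralizer_iff k).1 x.2 c c.2)
  have : IsScalarTower k L C := IsScalarTower.of_algebraMap_eq fun c => (ι.commutes c).symm
  have : FiniteDimensional L C := Module.Finite.of_restrictScalars_finite k L C
  have : Algebra.IsCentral L C := ⟨fun z hz => by
    have h : (z : D) ∈ Subalgebra.centralizer k (C : Set D) := (Subalgebra.mem_centralizer_iff k).2 fun y hy =>
      congrArg Subtype.val (Subalgebra.mem_center_iff.1 hz ⟨y, hy⟩)
    rw [hCC] at h
    exact Algebra.mem_bot.2 ⟨⟨z, h⟩, Subtype.ext rfl⟩⟩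
  by_contra hne
  have hne' : (⊥ : Subalgebra L C) ≠ ⊤ := fun h => hne <| le_antisymm (fun x hx => by
    have : (⟨x, hx⟩ : C) ∈ (⊥ : Subalgebra L C) := h ▸ trivial
    obtain ⟨c, hc⟩ := Algebra.mem_bot.1 this
    have : (c : D) = x := congrArg Subtype.val hc
    exact this ▸ c.2) hLC
  obtain ⟨x, hx, hxs⟩ := JacobsonNoether.exists_separable_and_not_isCentral' hne'
  have hirr : Irreducible (minpoly L x) := minpoly.irreducible (Algebra.IsIntegral.isIntegral x)
  have := Fact.mk hirr
  let F := AdjoinRoot (minpoly L x)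
  have : Algebra.IsSeparable L F := by
    have h0 : (minpoly L x).Monic := minpoly.monic (Algebra.IsIntegral.isIntegral x)
    have hm : minpoly L (AdjoinRoot.root (minpoly L x)) = minpoly L x :=
      (AdjoinRoot.minpoly_root h0.ne_zero).trans (by rw [h0.leadingCoeff, inv_one, Polynomial.C_1, mul_one])
    have hroot : IsSeparable L (AdjoinRoot.root (minpoly L x)) := by rw [IsSeparable, hm]; exact hxs
    have h := (IntermediateField.isSeparable_adjoin_simple_iff_isSeparable L F).2 hroot
    have htop : IntermediateField.adjoin L ({AdjoinRoot.root (minpoly L x)} : Set F) = ⊤ :=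
      IntermediateField.adjoin_eq_top_of_algebra _ _ AdjoinRoot.adjoinRoot_eq_top
    rw [htop] at h
    exact AlgEquiv.Algebra.isSeparable IntermediateField.topEquiv
  let _ : Algebra k F := inferInstance
  have : IsScalarTower k L F := inferInstance
  have : Algebra.IsSeparable k F := Algebra.IsSeparable.trans k L F
  let g' : F →ₐ[L] C := Ideal.Quotient.liftₐ (Ideal.span {minpoly L x}) (Polynomial.aeval x) fun q hq => by
    obtain ⟨t, rfl⟩ := Ideal.mem_span_singleton.1 hq
    rw [map_mul, minpoly.aeval, zero_mul]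
  let g : F →ₐ[k] D := C.val.comp (g'.restrictScalars k)
  have hgr : g (AdjoinRoot.root _) = (x : D) := congrArg Subtype.val (Polynomial.aeval_X x)
  have hgc : ∀ c : L, g (algebraMap L F c) = (c : D) := fun c => congrArg Subtype.val (g'.commutes c)
  let L' := g.range
  have h1 : ∀ a ∈ L', ∀ b ∈ L', a * b = b * a := by
    rintro a ⟨a', rfl⟩ b ⟨b', rfl⟩
    show g a' * g b' = g b' * g a'
    rw [← map_mul, ← map_mul, mul_comm]
  have h2 : Algebra.IsSeparable k L' := AlgEquiv.Algebra.isSeparable (AlgEquiv.ofInjective g (RingHom.injective g.toRingHom))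
  have h3 : L ≤ L' := fun c hc => ⟨algebraMap L F ⟨c, hc⟩, hgc ⟨c, hc⟩⟩
  have h4 : (x : D) ∈ L' := ⟨AdjoinRoot.root _, hgr⟩
  have h5 : L < L' := lt_of_le_of_ne h3 fun h => hx (Algebra.mem_bot.2 ⟨⟨x, h ▸ h4⟩, Subtype.ext rfl⟩)
  have h6 : Module.finrank k L < Module.finrank k L' := Submodule.finrank_lt_finrank_of_lt (s := L.toSubmodule) (t := L'.toSubmodule) h5
  exact Nat.findGreatest_is_greatest (P := P) (n := Module.finrank k D) (by rw [← hn]; exact h6)
    (hle _ ⟨L', h1, h2, rfl⟩) ⟨L', h1, h2, rfl⟩

theorem exists_splitting (A : Type v) [Ring A] [Algebra k A] [Algebra.IsCentral k A] [IsSimpleRing A]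
    [FiniteDimensional k A] :
    ∃ (k' : Type u) (_ : Field k') (_ : Algebra k k'), FiniteDimensional k k' ∧
      Algebra.IsSeparable k k' ∧ Curves.Splits k A k' := by
  have : IsArtinianRing A := .of_finite k A
  obtain ⟨n, hn, D, _, _, _, ⟨e⟩⟩ := IsSimpleRing.exists_algEquiv_matrix_divisionRing_finite k A
  have : Algebra.IsCentral k D := ⟨fun z hz => by
    have hs : Matrix.scalar (Fin n) z ∈ Subalgebra.center k (Matrix (Fin n) (Fin n) D) :=
      Subalgebra.mem_center_iff.2 fun M => by
        ext i j; simp [Matrix.mul_diagonal, Matrix.diagonal_mul, (Subalgebra.mem_center_iff.1 hz (M i j))]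
    have : e.symm (Matrix.scalar (Fin n) z) ∈ Subalgebra.center k A := Subalgebra.mem_center_iff.2 fun a => by
      refine e.injective ?_
      rw [map_mul, map_mul, e.apply_symm_apply]
      exact Subalgebra.mem_center_iff.1 hs (e a)
    rw [Algebra.IsCentral.center_eq_bot, Algebra.mem_bot] at this
    obtain ⟨c, hc⟩ := this
    have h := congrArg e hc
    rw [e.commutes, e.apply_symm_apply] at h
    refine Algebra.mem_bot.2 ⟨c, ?_⟩
    have := congrFun (congrFun h (⟨0, Nat.pos_of_ne_zero hn.out⟩)) ⟨0, Nat.pos_of_ne_zero hn.out⟩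
    simpa [Matrix.algebraMap_matrix_apply] using this⟩
  obtain ⟨L, hcomm, hsep, hC⟩ := exists_separable_max (k := k) D
  let _ : CommRing L := { (inferInstance : Ring L) with mul_comm := fun x y => Subtype.ext (hcomm x x.2 y y.2) }
  have : IsArtinianRing L := .of_finite k L
  let _ : Field L := (IsArtinianRing.isField_of_isDomain L).toField
  have : IsSimpleRing L := (isSimpleRing_iff_isField L).2 (Field.toIsField L)
  obtain ⟨α, hα⟩ := Field.exists_primitive_element k L
  have hint : IsIntegral k α := Algebra.IsIntegral.isIntegral α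
  have := Fact.mk (minpoly.irreducible hint)
  have eF : AdjoinRoot (minpoly k α) ≃ₐ[k] L :=
    (IntermediateField.adjoinRootEquivAdjoin k hint).trans ((IntermediateField.equivOfEq hα).trans IntermediateField.topEquiv)
  refine ⟨AdjoinRoot (minpoly k α), inferInstance, inferInstance, eF.symm.toLinearEquiv.finiteDimensional,
    AlgEquiv.Algebra.isSeparable eF.symm, splits_congr _ e (splits_matrix _ D hn.out ?_)⟩
  have : FiniteDimensional k (AdjoinRoot (minpoly k α)) := eF.symm.toLinearEquiv.finiteDimensional
  refine splits_of_embedding (L.val.comp eF.toAlgHom) ?_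
  have hd := (centralizer (A := D) L).2
  rw [hC] at hd
  rw [hd, eF.toLinearEquiv.finrank_eq, pow_two]

end Groth.Agent.CSA8
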