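import Groth.Agent.CSA.Basic
import Mathlib.RingTheory.SimpleModule.WedderburnArtin
import Mathlib.RingTheory.SimpleRing.Matrix
import Mathlib.LinearAlgebra.TensorProduct.Basis
import Mathlib.RingTheory.TensorProduct.Basic
import Mathlib.Algebra.Algebra.Subalgebra.Basic

/-! Simple algebras: tensor products, modules, Skolem–Noether, centralisers. -/

set_option autoImplicit false

open scoped TensorProduct

universe u v w

namespace Groth.Agent.CSA8

variable (k : Type u) [Field k]

theorem tensor_simple (A : Type v) [Ring A] [Algebra k A] [IsSimpleRing A] (A' : Type w) [Ring A'] [Algebra k A']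
    [Algebra.IsCentral k A'] [IsSimpleRing A'] [FiniteDimensional k A'] : IsSimpleRing (A ⊗[k] A') := by
  classical
  have : Nontrivial (A ⊗[k] A') :=
    (Algebra.TensorProduct.includeLeft_injective (S := k) (A := A) (B := A')
      (algebraMap k A').injective).nontrivial
  refine IsSimpleRing.of_eq_bot_or_eq_top fun I => ?_
  refine or_iff_not_imp_left.2 fun hI => ?_
  obtain ⟨z, hz, hz0⟩ : ∃ z ∈ I, z ≠ 0 := by
    by_contra! h
    exact hI (eq_bot_iff.2 fun x hx => (TwoSidedIdeal.mem_bot _).2 (h x hx))
  let b := Module.finBasis k A'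
  let c := TensorProduct.equivFinsuppOfBasisRight (M := A) b
  have key : ∀ i, (c z i) ⊗ₜ[k] (1 : A') ∈ I := fun i => by
    let g : Module.End k A' := (Algebra.linearMap k A').comp (b.coord i)
    obtain ⟨w, hw⟩ := (CSA.Basic.mulLeftRight_bijective k A').2 g
    have h1 : ∀ w : A' ⊗[k] A'ᵐᵒᵖ, LinearMap.lTensor A (AlgHom.mulLeftRight k A' w) z ∈ I := fun w => by
      induction w using TensorProduct.induction_on with
      | zero => simp
      | tmul l r =>
        have : ∀ y : A ⊗[k] A', LinearMap.lTensor A (AlgHom.mulLeftRight k A' (l ⊗ₜ r)) y =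
            ((1 : A) ⊗ₜ[k] l) * y * ((1 : A) ⊗ₜ[k] r.unop) := fun y => by
          induction y using TensorProduct.induction_on with
          | zero => simp
          | tmul a a' => simp [AlgHom.mulLeftRight_apply, Algebra.TensorProduct.tmul_mul_tmul]
          | add _ _ h₁ h₂ => simp only [map_add, h₁, h₂, mul_add, add_mul]
        rw [this]
        exact I.mul_mem_right _ _ (I.mul_mem_left _ _ hz)
      | add _ _ h₁ h₂ => rw [map_add, LinearMap.lTensor_add, LinearMap.add_apply]; exact I.add_mem h₁ h₂
    have h2 : ∀ y : A ⊗[k] A', LinearMap.lTensor A g y = (c y i) ⊗ₜ[k] (1 : A') := fun y => by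
      induction y using TensorProduct.induction_on with
      | zero => simp
      | tmul a a' =>
        simp only [g, c, LinearMap.lTensor_tmul, LinearMap.comp_apply, Algebra.linearMap_apply, Module.Basis.coord_apply,
          TensorProduct.equivFinsuppOfBasisRight_apply_tmul_apply, Algebra.algebraMap_eq_smul_one]
        rw [TensorProduct.tmul_smul, TensorProduct.smul_tmul']
      | add _ _ h₁ h₂ => rw [map_add, map_add, h₁, h₂, Finsupp.add_apply, TensorProduct.add_tmul]
    rw [← h2, ← hw]
    exact h1 w
  obtain ⟨i, hi⟩ : ∃ i, c z i ≠ 0 := by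
    by_contra! h
    exact hz0 (c.injective (by rw [map_zero]; exact Finsupp.ext h))
  let J : TwoSidedIdeal A := TwoSidedIdeal.mk' {a | a ⊗ₜ[k] (1 : A') ∈ I} (by simp)
    (fun {x y} hx hy => by rw [Set.mem_ofPred_eq, TensorProduct.add_tmul]; exact I.add_mem hx hy)
    (fun {x} hx => by rw [Set.mem_ofPred_eq, TensorProduct.neg_tmul]; exact I.neg_mem hx)
    (fun {x y} hy => by
      have := I.mul_mem_left (x ⊗ₜ[k] (1 : A')) _ hy
      rwa [Algebra.TensorProduct.tmul_mul_tmul, one_mul] at this)
    (fun {x y} hx => by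
      have := I.mul_mem_right _ (y ⊗ₜ[k] (1 : A')) hx
      rwa [Algebra.TensorProduct.tmul_mul_tmul, one_mul] at this)
  have hJ : J = ⊤ := (eq_bot_or_eq_top J).resolve_left fun h => hi <| by
    have : c z i ∈ J := (TwoSidedIdeal.mem_mk' ..).2 (key i)
    rw [h] at this
    exact (TwoSidedIdeal.mem_bot _).1 this
  have h1 : (1 : A) ∈ J := hJ ▸ trivial
  have h2 : (1 : A ⊗[k] A') ∈ I := by
    simp only [J, TwoSidedIdeal.mem_mk', Set.mem_ofPred_eq] at h1
    exact h1
  refine eq_top_iff.2 fun x _ => ?_
  have := I.mul_mem_left x _ h2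
  rwa [mul_one] at this

section Modules

variable (R : Type v) [Ring R] [Algebra k R] [IsSimpleRing R] [FiniteDimensional k R]

include k in
theorem simple_iso (S : Type*) (T : Type*) [AddCommGroup S] [Module R S] [IsSimpleModule R S] [AddCommGroup T] [Module R T]
    [IsSimpleModule R T] : Nonempty (S ≃ₗ[R] T) := by
  have : IsArtinianRing R := .of_finite k R
  obtain ⟨I, ⟨eI⟩⟩ := IsSemisimpleRing.exists_linearEquiv_ideal_of_isSimpleModule R S
  obtain ⟨J, ⟨eJ⟩⟩ := IsSemisimpleRing.exists_linearEquiv_ideal_of_isSimpleModule R T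
  have : IsSimpleModule R I := IsSimpleModule.congr eI.symm
  have : IsSimpleModule R J := IsSimpleModule.congr eJ.symm
  obtain ⟨e⟩ := (IsSimpleRing.isIsotypic R R) I J
  exact ⟨eI.trans (e.symm.trans eJ.symm)⟩

variable (M : Type w) [AddCommGroup M] [Module k M] [Module R M] [IsScalarTower k R M] [FiniteDimensional k M]

theorem module_equiv (N : Type*) [AddCommGroup N] [Module k N] [Module R N] [IsScalarTower k R N]
    [FiniteDimensional k N] (h : Module.finrank k M = Module.finrank k N) : Nonempty (M ≃ₗ[R] N) := by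
  have : IsArtinianRing R := .of_finite k R
  have : Module.Finite R M := .of_restrictScalars_finite k R M
  have : Module.Finite R N := .of_restrictScalars_finite k R N
  rcases subsingleton_or_nontrivial M with hM | hM
  · have : Subsingleton N := Module.finrank_zero_iff.1 (h ▸ Module.finrank_zero_of_subsingleton)
    exact ⟨LinearEquiv.ofSubsingleton _ _⟩
  · have : Nontrivial N := Module.nontrivial_of_finrank_pos (R := k) (h ▸ Module.finrank_pos)
    obtain ⟨n, hn, S, hS, ⟨e⟩⟩ := (IsSimpleRing.isIsotypic R M).linearEquiv_fun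
    obtain ⟨m, hm, T, hT, ⟨e'⟩⟩ := (IsSimpleRing.isIsotypic R N).linearEquiv_fun
    obtain ⟨f⟩ := simple_iso k R S T
    have h1 := (e.restrictScalars k).finrank_eq
    have h2 := (e'.restrictScalars k).finrank_eq
    have : FiniteDimensional k S := Module.Finite.of_injective ((S.subtype).restrictScalars k) Subtype.val_injective
    have : FiniteDimensional k T := Module.Finite.of_injective ((T.subtype).restrictScalars k) Subtype.val_injective
    rw [Module.finrank_pi_fintype, Finset.sum_const, smul_eq_mul, Finset.card_univ, Fintype.card_fin] at h1 h2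
    rw [← (f.restrictScalars k).finrank_eq] at h2
    have : Nontrivial S := IsSimpleModule.nontrivial R S
    have hpos : 0 < Module.finrank k S := Module.finrank_pos
    obtain rfl : n = m := Nat.eq_of_mul_eq_mul_right hpos (h1.symm.trans (h.trans h2))
    exact ⟨e.trans ((LinearEquiv.piCongrRight fun _ => f).trans e'.symm)⟩

theorem end_simple [Nontrivial M] :
    IsSimpleRing (Module.End R M) ∧
      Module.finrank k R * Module.finrank k (Module.End R M) = Module.finrank k M * Module.finrank k M := by
  classical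
  have : IsArtinianRing R := .of_finite k R
  have : Module.Finite R M := .of_restrictScalars_finite k R M
  obtain ⟨n, hn, S, hS, ⟨e⟩⟩ := (IsSimpleRing.isIsotypic R M).linearEquiv_fun
  obtain ⟨r, hr, T, hT, ⟨e'⟩⟩ := (IsSimpleRing.isIsotypic R R).linearEquiv_fun
  obtain ⟨f⟩ := simple_iso k R S T
  let E : Module.End R M ≃ₐ[k] Matrix (Fin n) (Fin n) (Module.End R S) :=
    (e.conjAlgEquiv k).trans (endVecAlgEquivMatrixEnd ..)
  let E' : Module.End R R ≃ₐ[k] Matrix (Fin r) (Fin r) (Module.End R S) :=
    ((e'.trans (LinearEquiv.piCongrRight fun _ => f.symm)).conjAlgEquiv k).trans (endVecAlgEquivMatrixEnd ..)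
  refine ⟨IsSimpleRing.of_ringEquiv E.symm.toRingEquiv inferInstance, ?_⟩
  have hM := (e.restrictScalars k).finrank_eq
  have : FiniteDimensional k S := Module.Finite.of_injective ((S.subtype).restrictScalars k) Subtype.val_injective
  rw [Module.finrank_pi_fintype, Finset.sum_const, smul_eq_mul, Finset.card_univ, Fintype.card_fin] at hM
  have hR := ((e'.trans (LinearEquiv.piCongrRight fun _ => f.symm)).restrictScalars k).finrank_eq
  rw [Module.finrank_pi_fintype, Finset.sum_const, smul_eq_mul, Finset.card_univ, Fintype.card_fin] at hR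
  have hR' : Module.finrank k R = r * r * Module.finrank k (Module.End R S) := by
    rw [(MulOpposite.opLinearEquiv k : R ≃ₗ[k] Rᵐᵒᵖ).finrank_eq,
      ((AlgEquiv.moduleEndSelf k (A := R)).toLinearEquiv).finrank_eq, E'.toLinearEquiv.finrank_eq,
      Module.finrank_matrix, Fintype.card_fin]
  have hδ : Module.finrank k S = r * Module.finrank k (Module.End R S) :=
    Nat.eq_of_mul_eq_mul_left (Nat.pos_of_ne_zero hr.out) (by rw [← hR, hR']; ring)
  rw [E.toLinearEquiv.finrank_eq, Module.finrank_matrix, Fintype.card_fin, hR', hM, hδ]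
  ring

end Modules

/-- `V` as a module through `ρ` -/
@[nolint unusedArguments]
def Via {R : Type v} [Ring R] [Algebra k R] {V : Type w} [AddCommGroup V] [Module k V]
    (_ρ : R →ₐ[k] Module.End k V) : Type w := V

section Via

variable {k} {R : Type v} [Ring R] [Algebra k R] {V : Type w} [AddCommGroup V] [Module k V] (ρ : R →ₐ[k] Module.End k V)

instance : AddCommGroup (Via k ρ) := inferInstanceAs (AddCommGroup V)
instance : Module k (Via k ρ) := inferInstanceAs (Module k V)
instance [FiniteDimensional k V] : FiniteDimensional k (Via k ρ) := inferInstanceAs (FiniteDimensional k V)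
instance : Module R (Via k ρ) where
  smul r x := (ρ r x : V)
  one_smul x := show (ρ 1 x : V) = x by rw [map_one]; rfl
  mul_smul r s x := show (ρ (r * s) x : V) = ρ r (ρ s x) by rw [map_mul]; rfl
  smul_zero r := show (ρ r (0 : V) : V) = 0 from map_zero _
  smul_add r x y := map_add (ρ r) x y
  add_smul r s x := show (ρ (r + s) x : V) = ρ r x + ρ s x by rw [map_add]; rfl
  zero_smul x := show (ρ 0 x : V) = 0 by rw [map_zero]; rfl

theorem via_smul (r : R) (x : Via k ρ) : (r • x : Via k ρ) = ρ r x := rfl

instance : IsScalarTower k R (Via k ρ) := ⟨fun c r x => show (ρ (c • r) x : V) = c • ρ r x by rw [map_smul]; rfl⟩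


theorem conj_equiv [IsSimpleRing R] [FiniteDimensional k R] [FiniteDimensional k V] (ρ' : R →ₐ[k] Module.End k V) :
    ∃ φ : V ≃ₗ[k] V, ∀ r x, φ (ρ r x) = ρ' r (φ x) := by
  have htw : IsScalarTower k R (Via k ρ') := instIsScalarTowerVia ρ'
  obtain ⟨e⟩ := @module_equiv k _ R _ _ _ _ (Via k ρ) _ (instModuleVia ρ) _ (instIsScalarTowerVia ρ) (instFiniteDimensionalVia ρ) (Via k ρ') _ (instModuleVia ρ') _ htw (instFiniteDimensionalVia ρ') rfl
  exact ⟨e.restrictScalars k, fun r x => e.map_smul r x⟩

end Via

section Csa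

variable {k} {A : Type v} [Ring A] [Algebra k A]

/-- `b ⊗ op a ↦ (x ↦ f b * x * a)` -/
noncomputable def act {B : Type w} [Ring B] [Algebra k B] (f : B →ₐ[k] A) : B ⊗[k] Aᵐᵒᵖ →ₐ[k] Module.End k A :=
  (AlgHom.mulLeftRight k A).comp (Algebra.TensorProduct.map f (AlgHom.id k _))

theorem act_apply {B : Type w} [Ring B] [Algebra k B] (f : B →ₐ[k] A) (b : B) (a : Aᵐᵒᵖ) (x : A) :
    act f (b ⊗ₜ a) x = f b * x * a.unop := AlgHom.mulLeftRight_apply k A _ _ _

variable [Algebra.IsCentral k A] [IsSimpleRing A] [FiniteDimensional k A]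

omit [IsSimpleRing A] [FiniteDimensional k A] in
theorem central_op : Algebra.IsCentral k Aᵐᵒᵖ := ⟨fun x hx => by
  have h : x.unop ∈ Subalgebra.center k A := Subalgebra.mem_center_iff.2 fun b => by
    have := congrArg MulOpposite.unop (Subalgebra.mem_center_iff.1 hx (MulOpposite.op b))
    simpa using this.symm
  rw [Algebra.IsCentral.center_eq_bot, Algebra.mem_bot] at h
  obtain ⟨c, hc⟩ := h
  exact Algebra.mem_bot.2 ⟨c, MulOpposite.unop_injective hc⟩⟩

theorem skolem_noether {B : Type w} [Ring B] [Algebra k B] [IsSimpleRing B] (f g : B →ₐ[k] A) :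
    ∃ x : Aˣ, ∀ b : B, f b = (x : A) * g b * (x⁻¹ : Aˣ) := by
  have : FiniteDimensional k B := FiniteDimensional.of_injective f.toLinearMap (RingHom.injective f.toRingHom)
  have := central_op (k := k) (A := A)
  have := tensor_simple k B Aᵐᵒᵖ
  obtain ⟨φ, hφ⟩ := conj_equiv (act g) (act f)
  have hr : ∀ x a, φ (x * a) = φ x * a := fun x a => by
    simpa [act_apply] using hφ ((1 : B) ⊗ₜ MulOpposite.op a) x
  obtain ⟨y, hy⟩ : ∃ y, φ 1 * y = 1 := ⟨φ.symm 1, by rw [← hr, one_mul, φ.apply_symm_apply]⟩
  have : Module.Finite k A := inferInstance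
  have : IsArtinianRing A := .of_finite k A
  let u : Aˣ := ⟨φ 1, y, hy, mul_eq_one_comm.1 hy⟩
  refine ⟨u, fun b => ?_⟩
  have h1 : φ (g b) = f b * φ 1 := by simpa [act_apply] using hφ (b ⊗ₜ (1 : Aᵐᵒᵖ)) 1
  have h2 : φ (g b) = φ 1 * g b := by rw [← hr, one_mul]
  show f b = φ 1 * g b * y
  rw [← h2, h1, mul_assoc, hy, mul_one]

theorem centralizer (B : Subalgebra k A) [IsSimpleRing B] :
    IsSimpleRing (Subalgebra.centralizer k (B : Set A)) ∧
      Module.finrank k A = Module.finrank k B * Module.finrank k (Subalgebra.centralizer k (B : Set A)) := by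
  have := central_op (k := k) (A := A)
  have := tensor_simple k B Aᵐᵒᵖ
  let R := B ⊗[k] Aᵐᵒᵖ
  let ρ := act B.val
  let M := Via k ρ
  have : Nontrivial M := inferInstanceAs (Nontrivial A)
  obtain ⟨hs, hd⟩ := end_simple k R M
  let C := Subalgebra.centralizer k (B : Set A)
  let Φ : C →ₐ[k] Module.End R M := AlgHom.ofLinearMap
    { toFun := fun c =>
        { toFun := fun x => LinearMap.mulLeft k (c : A) x
          map_add' := fun x y => map_add (LinearMap.mulLeft k (c : A)) x y
          map_smul' := fun r x => by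
            show LinearMap.mulLeft k (c : A) (ρ r x) = ρ r (LinearMap.mulLeft k (c : A) x)
            generalize (show A from x) = x
            simp only [LinearMap.mulLeft_apply]
            induction r using TensorProduct.induction_on with
            | zero => simp
            | tmul b a =>
              rw [act_apply, act_apply, Subalgebra.coe_val]
              simp only [← mul_assoc]
              rw [(Subalgebra.mem_centralizer_iff k).1 c.2 b b.2]
            | add _ _ h₁ h₂ => simp only [map_add, LinearMap.add_apply, mul_add, h₁, h₂] }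
      map_add' := fun c d => LinearMap.ext fun x => add_mul (c : A) (d : A) (show A from x)
      map_smul' := fun t c => LinearMap.ext fun x => smul_mul_assoc t (c : A) (show A from x) }
    (LinearMap.ext fun x => one_mul (show A from x)) (fun c d => LinearMap.ext fun x => mul_assoc (c : A) (d : A) (show A from x))
  have hinj : Function.Injective Φ := fun c d h => Subtype.ext <| by
    have : (c : A) * 1 = (d : A) * 1 := LinearMap.congr_fun h (show M from (1 : A))
    simpa using this
  have hsurj : Function.Surjective Φ := fun ψ => by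
    let ψv : A → A := fun x => ψ x
    have hψ : ∀ (b : B) (a : A) (x : A), ψv ((b : A) * x * a) = (b : A) * ψv x * a := fun b a x => by
      have h : ψv (ρ (b ⊗ₜ MulOpposite.op a) x) = ρ (b ⊗ₜ MulOpposite.op a) (ψv x) :=
        ψ.map_smul (b ⊗ₜ MulOpposite.op a) x
      rwa [act_apply, act_apply] at h
    refine ⟨⟨ψv 1, (Subalgebra.mem_centralizer_iff k).2 fun b hb => ?_⟩, LinearMap.ext fun x => ?_⟩
    · have h1 := hψ ⟨b, hb⟩ 1 1
      have h2 := hψ 1 b 1
      simp only [mul_one, OneMemClass.coe_one, one_mul] at h1 h2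
      exact h1.symm.trans h2
    · show LinearMap.mulLeft k (ψv 1) x = ψv x
      generalize (show A from x) = x
      rw [LinearMap.mulLeft_apply]
      have h2 := hψ 1 (x : A) 1
      simp only [mul_one, OneMemClass.coe_one, one_mul] at h2
      exact h2.symm
  let E := AlgEquiv.ofBijective Φ ⟨hinj, hsurj⟩
  refine ⟨IsSimpleRing.of_ringEquiv E.symm.toRingEquiv hs, ?_⟩
  rw [Module.finrank_tensorProduct, ← (MulOpposite.opLinearEquiv k : A ≃ₗ[k] Aᵐᵒᵖ).finrank_eq,
    ← E.toLinearEquiv.finrank_eq] at hd
  have hM : Module.finrank k M = Module.finrank k A := rfl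
  rw [hM, mul_right_comm] at hd
  exact (Nat.eq_of_mul_eq_mul_right Module.finrank_pos hd).symm

theorem double_centralizer (B : Subalgebra k A) [IsSimpleRing B] :
    Subalgebra.centralizer k (Subalgebra.centralizer k (B : Set A) : Set A) = B := by
  obtain ⟨hs, h1⟩ := centralizer B
  obtain ⟨-, h2⟩ := centralizer (Subalgebra.centralizer k (B : Set A))
  have hle : B ≤ Subalgebra.centralizer k (Subalgebra.centralizer k (B : Set A) : Set A) := fun b hb =>
    (Subalgebra.mem_centralizer_iff k).2 fun c hc => ((Subalgebra.mem_centralizer_iff k).1 hc b hb).symm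
  refine (Subalgebra.eq_of_le_of_finrank_le hle ?_).symm
  rw [h1, mul_comm] at h2
  have : 0 < Module.finrank k (Subalgebra.centralizer k (B : Set A)) := Module.finrank_pos
  exact (Nat.eq_of_mul_eq_mul_left this h2).ge

end Csa

end Groth.Agent.CSA8
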