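import Groth.Agent.CSA8.Simple
import Mathlib.RingTheory.AdjoinRoot
import Mathlib.RingTheory.SimpleRing.Field
import Mathlib.FieldTheory.IsAlgClosed.AlgebraicClosure
import Mathlib.FieldTheory.Minpoly.Field
import Mathlib.RingTheory.UniqueFactorizationDomain.NormalizedFactors
import Mathlib.Algebra.Polynomial.Splits
import Mathlib.Algebra.Polynomial.FieldDivision

/-! Elements of a central simple algebra with a central power. -/

set_option autoImplicit false

open Polynomial
open scoped TensorProduct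

universe u v

namespace Groth.Agent.CSA8

variable {K : Type u} [Field K]

theorem factor_form (hK : ∀ n : ℕ, 0 < n → (X ^ n - 1 : K[X]).Splits) {m : ℕ} (hm : 0 < m) {c : K} (hc : c ≠ 0)
    {g g' : K[X]} (hg : Irreducible g) (hgm : g.Monic) (hg' : Irreducible g') (hgm' : g'.Monic)
    (h : g ∣ X ^ m - C c) (h' : g' ∣ X ^ m - C c) :
    g = X ^ g.natDegree - C (-g.coeff 0) ∧ g'.natDegree ≤ g.natDegree := by
  let Ω := AlgebraicClosure K
  obtain ⟨α, hα⟩ := IsAlgClosed.exists_aeval_eq_zero Ω g (degree_pos_of_irreducible hg).ne'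
  have hroot : ∀ {p : K[X]} {β : Ω}, p ∣ X ^ m - C c → aeval β p = 0 → β ^ m = algebraMap K Ω c := fun {p} {β} hp hβ => by
    obtain ⟨t, ht⟩ := hp
    have := congrArg (aeval β) ht
    rw [map_mul, hβ, zero_mul, map_sub, map_pow, aeval_X, aeval_C, sub_eq_zero] at this
    exact this
  have hα0 : α ≠ 0 := fun e => by
    have := hroot h hα
    rw [e, zero_pow hm.ne', eq_comm, map_eq_zero] at this
    exact hc this
  have hζ : ∀ {β : Ω}, β ^ m = algebraMap K Ω c → ∃ t : K, β = algebraMap K Ω t * α := fun {β} hβ => by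
    have h1 : (β / α) ^ m = 1 := by
      rw [div_pow, hβ, hroot h hα, div_self]
      exact (_root_.map_ne_zero _).2 hc
    have h2 : β / α ∈ ((X ^ m - 1 : K[X]).map (algebraMap K Ω)).roots := by
      exact mem_roots'.2 ⟨Polynomial.map_ne_zero (by simpa using (monic_X_pow_sub_C (1 : K) hm.ne').ne_zero), by simp [h1]⟩
    rw [(hK m hm).roots_map (algebraMap K Ω), Multiset.mem_map] at h2
    obtain ⟨t, -, ht⟩ := h2
    exact ⟨t, by rw [ht, div_mul_cancel₀ _ hα0]⟩
  have hgmin : g = minpoly K α := minpoly.eq_of_irreducible_of_monic hg hα hgm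
  set d := g.natDegree with hd
  obtain ⟨a, ha⟩ : ∃ a : K, α ^ d = algebraMap K Ω a := by
    have hs : (g.map (algebraMap K Ω)).Splits := IsAlgClosed.splits _
    have h0 := hs.coeff_zero_eq_prod_roots_of_monic (hgm.map _)
    have hcard : (g.map (algebraMap K Ω)).roots.card = d := by
      rw [← hs.natDegree_eq_card_roots, natDegree_map]
    choose! t ht using fun β (hβ : β ∈ (g.map (algebraMap K Ω)).roots) => hζ (hroot h (by
      have := (mem_roots'.1 hβ).2
      rwa [IsRoot, eval_map_algebraMap] at this))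
    have hprod : (g.map (algebraMap K Ω)).roots.prod =
        algebraMap K Ω ((g.map (algebraMap K Ω)).roots.map t).prod * α ^ d := by
      conv_lhs => rw [← Multiset.map_id' (g.map (algebraMap K Ω)).roots, Multiset.map_congr rfl ht]
      rw [Multiset.prod_map_mul, Multiset.map_const', Multiset.prod_replicate, hcard, map_multiset_prod, Multiset.map_map]
      rfl
    rw [coeff_map, natDegree_map, ← hd, hprod] at h0
    have hne : algebraMap K Ω ((g.map (algebraMap K Ω)).roots.map t).prod ≠ 0 := fun e => by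
      rw [e, zero_mul, mul_zero, map_eq_zero] at h0
      have hX : (X : K[X]) ∣ g := X_dvd_iff.2 h0
      have := eq_of_monic_of_associated hgm monic_X ((Irreducible.associated_of_dvd irreducible_X hg hX).symm)
      rw [this, aeval_X] at hα
      exact hα0 hα
    refine ⟨g.coeff 0 / ((-1) ^ d * ((g.map (algebraMap K Ω)).roots.map t).prod), ?_⟩
    rw [map_div₀, map_mul, map_pow, map_neg, map_one, h0, eq_div_iff (mul_ne_zero (pow_ne_zero _ (by simp)) hne)]
    ring
  have heq : g = X ^ d - C a := by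
    have hdvd : g ∣ X ^ d - C a := hgmin ▸ minpoly.dvd K α (by simp [ha])
    have hd0 : 0 < d := Irreducible.natDegree_pos hg
    exact (eq_of_monic_of_dvd_of_natDegree_le hgm (monic_X_pow_sub_C a hd0.ne') hdvd (by rw [natDegree_X_pow_sub_C])).symm
  refine ⟨?_, ?_⟩
  · have hd0 : 0 < d := Irreducible.natDegree_pos hg
    conv_rhs => rw [heq]
    rw [coeff_sub, coeff_X_pow, coeff_C, if_neg hd0.ne, if_pos rfl, zero_sub, neg_neg]
    conv_lhs => rw [heq]
  · obtain ⟨β, hβ⟩ := IsAlgClosed.exists_aeval_eq_zero Ω g' (degree_pos_of_irreducible hg').ne'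
    obtain ⟨t, rfl⟩ := hζ (hroot h' hβ)
    have hd0 : 0 < d := Irreducible.natDegree_pos hg
    have hdvd : g' ∣ X ^ d - C (t ^ d * a) := by
      rw [minpoly.eq_of_irreducible_of_monic hg' hβ hgm']
      exact minpoly.dvd K _ (by simp [mul_pow, ha])
    have := natDegree_le_of_dvd hdvd (monic_X_pow_sub_C _ hd0.ne').ne_zero
    rwa [natDegree_X_pow_sub_C] at this

variable {A : Type v} [Ring A] [Algebra K A] [Algebra.IsCentral K A] [IsSimpleRing A] [FiniteDimensional K A]

theorem dvd_single {n : ℕ} (hn : Module.finrank K A = n ^ 2) (x : A) {g : K[X]} (hg : Irreducible g)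
    (W : Submodule K A) (hr : ∀ w ∈ W, ∀ a : A, w * a ∈ W) (hx : ∀ w ∈ W, x * w ∈ W)
    (h0 : ∀ w ∈ W, aeval x g * w = 0) : g.natDegree * n ∣ Module.finrank K W := by
  rcases subsingleton_or_nontrivial W with hW | hW
  · rw [Module.finrank_zero_of_subsingleton]; exact dvd_zero _
  have := Fact.mk hg
  let L := AdjoinRoot g
  have : FiniteDimensional K L := (AdjoinRoot.powerBasis hg.ne_zero).finite
  have := central_op (k := K) (A := A)
  have := tensor_simple K L Aᵐᵒᵖ
  let X' : Module.End K W :=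
    { toFun := fun w => ⟨x * w, hx w w.2⟩
      map_add' := fun a b => Subtype.ext (mul_add _ _ _)
      map_smul' := fun c a => Subtype.ext (mul_smul_comm c x (a : A)) }
  have hX' : ∀ (p : K[X]) (w : W), ((aeval X' p w : W) : A) = aeval x p * w := fun p => by
    induction p using Polynomial.induction_on' with
    | add p q hp hq => intro w; simp [hp, hq, add_mul]
    | monomial i c =>
      intro w
      rw [aeval_monomial, aeval_monomial, Module.End.mul_apply, Module.algebraMap_end_apply, SetLike.val_smul,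
        ← Algebra.smul_def, smul_mul_assoc]
      congr 1
      induction i generalizing w with
      | zero => simp
      | succ i ih => rw [pow_succ, Module.End.mul_apply, ih, pow_succ, mul_assoc]; rfl
  let lL : L →ₐ[K] Module.End K W := Ideal.Quotient.liftₐ (Ideal.span {g}) (aeval X') fun q hq => by
    obtain ⟨t, rfl⟩ := Ideal.mem_span_singleton.1 hq
    refine LinearMap.ext fun w => Subtype.ext ?_
    rw [hX', mul_comm, map_mul, mul_assoc, h0 w w.2, mul_zero]
    rfl
  let lA : Aᵐᵒᵖ →ₐ[K] Module.End K W := AlgHom.ofLinearMap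
    { toFun := fun a =>
        { toFun := fun w => ⟨w * a.unop, hr w w.2 _⟩
          map_add' := fun u v => Subtype.ext (add_mul _ _ _)
          map_smul' := fun c u => Subtype.ext (smul_mul_assoc c (u : A) a.unop) }
      map_add' := fun a b => LinearMap.ext fun w => Subtype.ext (mul_add _ _ _)
      map_smul' := fun c a => LinearMap.ext fun w => Subtype.ext (mul_smul_comm c (w : A) a.unop) }
    (LinearMap.ext fun w => Subtype.ext (mul_one _)) (fun a b => LinearMap.ext fun w => Subtype.ext (mul_assoc _ _ _).symm)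
  have hcomm : ∀ (l : L) (a : Aᵐᵒᵖ), Commute (lL l) (lA a) := fun l a => by
    obtain ⟨q, rfl⟩ := Ideal.Quotient.mk_surjective l
    refine LinearMap.ext fun w => Subtype.ext ?_
    show ((aeval X' q (lA a w) : W) : A) = (aeval X' q w : W) * a.unop
    rw [hX', hX', mul_assoc]
    rfl
  let ρ : L ⊗[K] Aᵐᵒᵖ →ₐ[K] Module.End K W := Algebra.TensorProduct.lift lL lA hcomm
  let M := Via K ρ
  have : Nontrivial M := inferInstanceAs (Nontrivial W)
  obtain ⟨-, hd⟩ := end_simple K (L ⊗[K] Aᵐᵒᵖ) M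
  have hcen : ∀ (l : L) (t : L ⊗[K] Aᵐᵒᵖ), Commute (l ⊗ₜ[K] (1 : Aᵐᵒᵖ)) t := fun l t => by
    induction t using TensorProduct.induction_on with
    | zero => exact Commute.zero_right _
    | tmul b a =>
      show _ * _ = _ * _
      rw [Algebra.TensorProduct.tmul_mul_tmul, Algebra.TensorProduct.tmul_mul_tmul, mul_comm l b, one_mul, mul_one]
    | add _ _ h₁ h₂ => exact h₁.add_right h₂
  let χ : L →+* Module.End (L ⊗[K] Aᵐᵒᵖ) M :=
    { toFun := fun l =>
        { toFun := fun w => (l ⊗ₜ[K] (1 : Aᵐᵒᵖ)) • w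
          map_add' := fun u v => smul_add _ u v
          map_smul' := fun t w => by
            show (l ⊗ₜ[K] (1 : Aᵐᵒᵖ)) • t • w = t • (l ⊗ₜ[K] (1 : Aᵐᵒᵖ)) • w
            rw [smul_smul, smul_smul, (hcen l t).eq] }
      map_one' := LinearMap.ext fun w => one_smul _ w
      map_mul' := fun a b => LinearMap.ext fun w => by
        show ((a * b) ⊗ₜ[K] (1 : Aᵐᵒᵖ)) • w = (a ⊗ₜ[K] (1 : Aᵐᵒᵖ)) • (b ⊗ₜ[K] (1 : Aᵐᵒᵖ)) • w
        rw [smul_smul, Algebra.TensorProduct.tmul_mul_tmul, mul_one]
      map_zero' := LinearMap.ext fun w => by show ((0 : L) ⊗ₜ[K] (1 : Aᵐᵒᵖ)) • w = 0; rw [TensorProduct.zero_tmul]; exact zero_smul (L ⊗[K] Aᵐᵒᵖ) w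
      map_add' := fun a b => LinearMap.ext fun w => by
        show ((a + b) ⊗ₜ[K] (1 : Aᵐᵒᵖ)) • w = (a ⊗ₜ[K] (1 : Aᵐᵒᵖ)) • w + (b ⊗ₜ[K] (1 : Aᵐᵒᵖ)) • w
        rw [TensorProduct.add_tmul, add_smul] }
  let _ : Module L (Module.End (L ⊗[K] Aᵐᵒᵖ) M) := Module.compHom _ χ
  have : IsScalarTower K L (Module.End (L ⊗[K] Aᵐᵒᵖ) M) := ⟨fun c l φ => by
    show χ (c • l) * φ = c • (χ l * φ)
    refine LinearMap.ext fun w => ?_
    show ((c • l) ⊗ₜ[K] (1 : Aᵐᵒᵖ)) • φ w = c • ((l ⊗ₜ[K] (1 : Aᵐᵒᵖ)) • φ w)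
    rw [← TensorProduct.smul_tmul', smul_assoc]⟩
  have he := Module.finrank_mul_finrank K L (Module.End (L ⊗[K] Aᵐᵒᵖ) M)
  have hL : Module.finrank K L = g.natDegree := (AdjoinRoot.powerBasis hg.ne_zero).finrank.trans (AdjoinRoot.powerBasis_dim _)
  rw [Module.finrank_tensorProduct, hL, ← (MulOpposite.opLinearEquiv K : A ≃ₗ[K] Aᵐᵒᵖ).finrank_eq, hn, ← he, hL,
    ← pow_two (Module.finrank K M)] at hd
  refine (Nat.pow_dvd_pow_iff two_ne_zero).1 ⟨Module.finrank L (Module.End (L ⊗[K] Aᵐᵒᵖ) M), ?_⟩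
  show Module.finrank K M ^ 2 = _
  rw [← hd]; ring

theorem dvd_list {n r : ℕ} (hn : Module.finrank K A = n ^ 2) (x : A) (l : List K[X])
    (hl : ∀ g ∈ l, Irreducible g ∧ g.natDegree = r) :
    ∀ (W : Submodule K A), (∀ w ∈ W, ∀ a : A, w * a ∈ W) → (∀ w ∈ W, x * w ∈ W) →
      (∀ w ∈ W, aeval x l.prod * w = 0) → r * n ∣ Module.finrank K W := by
  induction l with
  | nil =>
    intro W _ _ h0
    have : W = ⊥ := (Submodule.eq_bot_iff _).2 fun w hw => by simpa using h0 w hw
    rw [this, finrank_bot]; exact dvd_zero _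
  | cons g l ih =>
    intro W hr hx h0
    set φ := (LinearMap.mulLeft K (aeval x g)).comp W.subtype
    rw [← LinearMap.finrank_range_add_finrank_ker φ]
    have hc : ∀ p : K[X], Commute x (aeval x p) := fun p => by
      simpa [Commute, SemiconjBy] using congrArg (aeval x) (mul_comm (X : K[X]) p)
    refine dvd_add (ih (fun q hq => hl q (List.mem_cons_of_mem _ hq)) _ ?_ ?_ ?_) ?_
    · rintro _ ⟨w, rfl⟩ a
      exact ⟨⟨w * a, hr w w.2 a⟩, (mul_assoc _ _ _).symm⟩
    · rintro _ ⟨w, rfl⟩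
      exact ⟨⟨x * w, hx w w.2⟩, by
        show aeval x g * (x * w) = x * (aeval x g * w)
        rw [← mul_assoc, ← (hc g).eq, mul_assoc]⟩
    · rintro _ ⟨w, rfl⟩
      show aeval x l.prod * (aeval x g * w) = 0
      rw [← mul_assoc, ← map_mul, mul_comm, ← List.prod_cons]
      exact h0 w w.2
    · have e : Module.finrank K (LinearMap.ker φ) = Module.finrank K ((LinearMap.ker φ).map W.subtype) :=
        (Submodule.equivMapOfInjective _ W.subtype_injective _).finrank_eq
      rw [e, ← (hl g List.mem_cons_self).2]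
      refine dvd_single hn x (hl g List.mem_cons_self).1 _ ?_ ?_ ?_
      · rintro _ ⟨w, hw, rfl⟩ a
        refine ⟨⟨w * a, hr w w.2 a⟩, ?_, rfl⟩
        show aeval x g * (w * a) = 0
        have hw' : aeval x g * (w : A) = 0 := hw
        rw [← mul_assoc, hw', zero_mul]
      · rintro _ ⟨w, hw, rfl⟩
        refine ⟨⟨x * w, hx w w.2⟩, ?_, rfl⟩
        show aeval x g * (x * w) = 0
        have hw' : aeval x g * (w : A) = 0 := hw
        rw [← mul_assoc, ← (hc g).eq, mul_assoc, hw', mul_zero]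
      · rintro _ ⟨w, hw, rfl⟩
        exact hw

theorem minpoly_pow_central (hK : ∀ n : ℕ, 0 < n → (X ^ n - 1 : K[X]).Splits) {n : ℕ}
    (hn : Module.finrank K A = n ^ 2) (x : A) (hx : IsUnit x)
    (hxm : ∃ m : ℕ, 0 < m ∧ x ^ m ∈ (algebraMap K A).range) :
    ∃ r : ℕ, 0 < r ∧ r ∣ n ∧ ∃ s : Multiset K, minpoly K x = (s.map fun a : K => X ^ r - C a).prod := by
  classical
  obtain ⟨m, hm, c, hc⟩ := hxm
  have hc0 : c ≠ 0 := fun e => by
    rw [e, map_zero] at hc
    exact (hx.pow m).ne_zero hc.symm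
  have hint : IsIntegral K x := IsIntegral.of_finite K x
  have hmon := minpoly.monic hint
  have hdvd : minpoly K x ∣ X ^ m - C c := minpoly.dvd K x (by simp [hc])
  set s := UniqueFactorizationMonoid.normalizedFactors (minpoly K x)
  have hs : ∀ g ∈ s, Irreducible g ∧ g.Monic ∧ g ∣ X ^ m - C c := fun g hg =>
    ⟨UniqueFactorizationMonoid.irreducible_of_normalized_factor g hg, by
      rw [← UniqueFactorizationMonoid.normalize_normalized_factor g hg]
      exact monic_normalize (UniqueFactorizationMonoid.irreducible_of_normalized_factor g hg).ne_zero,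
      (UniqueFactorizationMonoid.dvd_of_mem_normalizedFactors hg).trans hdvd⟩
  have hprod : s.prod = minpoly K x := by
    refine eq_of_monic_of_associated ?_ hmon (UniqueFactorizationMonoid.prod_normalizedFactors (minpoly.ne_zero hint))
    have := monic_multiset_prod_of_monic s id fun g hg => (hs g hg).2.1
    rwa [Multiset.map_id] at this
  obtain ⟨g₀, hg₀⟩ : ∃ g, g ∈ s := by
    refine Multiset.exists_mem_of_ne_zero fun e => ?_
    rw [e, Multiset.prod_zero] at hprod
    exact minpoly.ne_one K x hprod.symm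
  have hdeg : ∀ g ∈ s, g.natDegree = g₀.natDegree := fun g hg => le_antisymm
    (factor_form hK hm hc0 (hs g₀ hg₀).1 (hs g₀ hg₀).2.1 (hs g hg).1 (hs g hg).2.1 (hs g₀ hg₀).2.2 (hs g hg).2.2).2
    (factor_form hK hm hc0 (hs g hg).1 (hs g hg).2.1 (hs g₀ hg₀).1 (hs g₀ hg₀).2.1 (hs g hg).2.2 (hs g₀ hg₀).2.2).2
  refine ⟨g₀.natDegree, (hs g₀ hg₀).1.natDegree_pos, ?_, s.map fun g => -g.coeff 0, ?_⟩
  · have hn0 : 0 < n := Nat.pos_of_ne_zero fun e => by
      have := Module.finrank_pos (R := K) (M := A)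
      rw [hn, e] at this; simp at this
    have h := dvd_list (r := g₀.natDegree) hn x s.toList (fun g hg => ⟨(hs g (Multiset.mem_toList.1 hg)).1, hdeg g (Multiset.mem_toList.1 hg)⟩)
      ⊤ (fun _ _ _ => trivial) (fun _ _ => trivial) (fun w _ => by rw [Multiset.prod_toList, hprod, minpoly.aeval, zero_mul])
    rw [finrank_top, hn, pow_two] at h
    exact Nat.dvd_of_mul_dvd_mul_right hn0 h
  · rw [Multiset.map_map, ← hprod]
    conv_lhs => rw [← Multiset.map_id' s]
    exact congrArg Multiset.prod (Multiset.map_congr rfl fun g hg => by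
      rw [Function.comp_apply, ← hdeg g hg]
      exact (factor_form hK hm hc0 (hs g hg).1 (hs g hg).2.1 (hs g hg).1 (hs g hg).2.1 (hs g hg).2.2 (hs g hg).2.2).1)

end Groth.Agent.CSA8
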